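import Mathlib.RingTheory.PowerSeries.WellKnown
import Mathlib.RingTheory.PowerSeries.Inverse
import Mathlib.Data.Fintype.BigOperators
import Mathlib.Data.Fintype.Pi
import Mathlib.Algebra.BigOperators.Ring.Finset
import Mathlib.Algebra.Ring.GeomSum
import Mathlib.Algebra.Polynomial.Coeff

/-! # Counting exponent vectors with bounded entries -/

namespace Groth.Agent.BoundedCount

open PowerSeries

/-- `X + X^2 + ... + X^(q-1)` -/
noncomputable def small (q : ℕ) : PowerSeries ℤ := ∑ a : Fin q, if 1 ≤ (a : ℕ) then X ^ (a : ℕ) else 0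

theorem coeff_small_pow (n q s : ℕ) :
    coeff s (small q ^ n) =
      (Fintype.card {e : Fin n → Fin q // (∀ i, 1 ≤ (e i : ℕ)) ∧ ∑ i, (e i : ℕ) = s} : ℤ) := by
  rw [small, Fintype.sum_pow, map_sum, Fintype.card_subtype, ← Finset.sum_boole]
  refine Finset.sum_congr rfl fun e _ => ?_
  rw [Fintype.prod_ite_zero, Finset.prod_pow_eq_pow_sum]
  by_cases h : ∀ i, 1 ≤ (e i : ℕ)
  · rw [if_pos h, coeff_X_pow]
    simp only [h, implies_true, true_and, eq_comm]
  · rw [if_neg h, map_zero, if_neg (fun hh => h hh.1)]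

theorem small_mul_one_sub (q : ℕ) : small q * (1 - X) = X * (1 - X ^ (q - 1)) := by
  have hs : small q = ∑ a ∈ Finset.range q, if 1 ≤ a then (X : PowerSeries ℤ) ^ a else 0 :=
    Fin.sum_univ_eq_sum_range (fun a => if 1 ≤ a then (X : PowerSeries ℤ) ^ a else 0) q
  rw [hs]
  rcases q with _ | q
  · simp
  · have hg := geom_sum_mul_neg (X : PowerSeries ℤ) q
    have e : (∑ a ∈ Finset.range (q + 1), if 1 ≤ a then (X : PowerSeries ℤ) ^ a else 0) = X * ∑ a ∈ Finset.range q, X ^ a := by
      rw [Finset.sum_range_succ', Finset.mul_sum]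
      simp [pow_succ, mul_comm]
    rw [e, mul_assoc, hg, Nat.add_sub_cancel]

theorem small_pow (n q : ℕ) :
    small q ^ n = X ^ n * (1 - X ^ (q - 1)) ^ n * (invOneSubPow ℤ n : PowerSeries ℤ) := by
  have h := congrArg (fun x => x ^ n) (small_mul_one_sub q)
  rw [mul_pow, mul_pow, ← invOneSubPow_inv_eq_one_sub_pow ℤ n] at h
  rw [← h, mul_assoc]
  simp

theorem coeff_small_pow_eq (n q s : ℕ) (hn : 1 ≤ n) :
    coeff s (small q ^ n) = ∑ i ∈ Finset.range (n + 1),
        (-1 : ℤ) ^ i * (n.choose i : ℤ) *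
          (if i * (q - 1) + n ≤ s then (((s - i * (q - 1) - 1).choose (n - 1) : ℕ) : ℤ) else 0) := by
  have e : X ^ n * (1 - (X : PowerSeries ℤ) ^ (q - 1)) ^ n * (invOneSubPow ℤ n : PowerSeries ℤ) =
      ∑ i ∈ Finset.range (n + 1), C ((-1 : ℤ) ^ i * (n.choose i : ℤ)) * (X ^ (i * (q - 1) + n) * (invOneSubPow ℤ n : PowerSeries ℤ)) := by
    rw [sub_eq_neg_add, add_pow, Finset.mul_sum, Finset.sum_mul]
    refine Finset.sum_congr rfl fun i _ => ?_
    rw [neg_pow, map_mul, map_pow, map_neg, map_one, map_natCast, one_pow, mul_one, ← pow_mul, pow_add, mul_comm i (q - 1)]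
    ring
  rw [small_pow, e, map_sum]
  refine Finset.sum_congr rfl fun i _ => ?_
  rw [coeff_C_mul, coeff_X_pow_mul']
  congr 1
  split_ifs with h
  · rw [invOneSubPow_val_eq_mk_sub_one_add_choose_of_pos ℤ n (by omega), coeff_mk, show n - 1 + (s - (i * (q - 1) + n)) = s - i * (q - 1) - 1 by omega]
  · rfl

theorem card_by_small (p n s D : ℕ) (hp : Odd p) :
    Fintype.card {e : Fin n → Fin p // (∀ i, 1 ≤ (e i : ℕ)) ∧ ∑ i, (e i : ℕ) = s ∧
        (Finset.univ.filter fun i => 2 * (e i : ℕ) < p).card = D} =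
      n.choose D * ∑ j ∈ Finset.range (s + 1),
        Fintype.card {e : Fin D → Fin ((p + 1) / 2) // (∀ i, 1 ≤ (e i : ℕ)) ∧ ∑ i, (e i : ℕ) = j} *
          Fintype.card {e : Fin (n - D) → Fin ((p + 1) / 2) // (∀ i, 1 ≤ (e i : ℕ)) ∧ ∑ i, (e i : ℕ) = (s - j - (n - D) * ((p - 1) / 2))} := by
  obtain ⟨m, rfl⟩ := hp
  rw [show (2 * m + 1 + 1) / 2 = m + 1 by omega, show (2 * m + 1 - 1) / 2 = m by omega]
  rw [← Nat.cast_inj (R := ℤ), Nat.cast_mul, Nat.cast_sum]
  simp only [Nat.cast_mul, ← coeff_small_pow]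
  -- the generating function in two variables
  let g : Fin (2 * m + 1) → Polynomial (PowerSeries ℤ) := fun a =>
    if 1 ≤ (a : ℕ) then Polynomial.monomial (if 2 * (a : ℕ) < 2 * m + 1 then 1 else 0) (X ^ (a : ℕ)) else 0
  have hG : coeff s ((( ∑ a, g a) ^ n).coeff D) =
      (Fintype.card {e : Fin n → Fin (2 * m + 1) // (∀ i, 1 ≤ (e i : ℕ)) ∧ ∑ i, (e i : ℕ) = s ∧
        (Finset.univ.filter fun i => 2 * (e i : ℕ) < 2 * m + 1).card = D} : ℤ) := by
    rw [Fintype.sum_pow, Polynomial.finsetSum_coeff, map_sum, Fintype.card_subtype, ← Finset.sum_boole]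
    refine Finset.sum_congr rfl fun e _ => ?_
    simp only [g]
    rw [Fintype.prod_ite_zero]
    by_cases h : ∀ i, 1 ≤ (e i : ℕ)
    · rw [if_pos h]
      have hm : ∏ i, Polynomial.monomial (if 2 * (e i : ℕ) < 2 * m + 1 then 1 else 0) ((X : PowerSeries ℤ) ^ (e i : ℕ)) =
          Polynomial.monomial (Finset.univ.filter fun i => 2 * (e i : ℕ) < 2 * m + 1).card (X ^ ∑ i, (e i : ℕ)) := by
        simp only [← Polynomial.C_mul_X_pow_eq_monomial, Finset.prod_mul_distrib, ← map_prod, Finset.prod_pow_eq_pow_sum,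
          Finset.card_filter]
      rw [hm, Polynomial.coeff_monomial]
      by_cases hD : (Finset.univ.filter fun i => 2 * (e i : ℕ) < 2 * m + 1).card = D
      · rw [if_pos hD, coeff_X_pow]
        simp only [h, implies_true, true_and, hD, and_true, eq_comm]
      · rw [if_neg hD, map_zero, if_neg (fun hh => hD hh.2.2)]
    · rw [if_neg h, Polynomial.coeff_zero, map_zero, if_neg (fun hh => h hh.1)]
  rw [← hG]
  have hsum : ∑ a, g a = Polynomial.C (X ^ m * small (m + 1)) + Polynomial.C (small (m + 1)) * Polynomial.X := by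
    have hs : small (m + 1) = ∑ a ∈ Finset.range m, (X : PowerSeries ℤ) ^ (a + 1) := by
      rw [small, Fin.sum_univ_succ]
      simp only [Fin.val_zero, Fin.val_succ, Nat.le_add_left, if_true, zero_add, Nat.one_ne_zero,
        show ¬ (1 ≤ 0) from by omega, if_false]
      exact Fin.sum_univ_eq_sum_range (fun a => (X : PowerSeries ℤ) ^ (a + 1)) m
    have hg : ∑ a, g a = ∑ a ∈ Finset.range (2 * m + 1),
        if 1 ≤ a then Polynomial.monomial (if 2 * a < 2 * m + 1 then 1 else 0) ((X : PowerSeries ℤ) ^ a) else 0 :=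
      Fin.sum_univ_eq_sum_range (fun a => if 1 ≤ a then Polynomial.monomial (if 2 * a < 2 * m + 1 then 1 else 0) ((X : PowerSeries ℤ) ^ a) else 0) _
    rw [hg, Finset.sum_range_succ', if_neg (by omega), add_zero, two_mul m, Finset.sum_range_add, hs, Finset.mul_sum, map_sum, map_sum,
      Finset.sum_mul, add_comm]
    congr 1
    · refine Finset.sum_congr rfl fun a ha => ?_
      rw [if_pos (by omega), if_neg (by omega), Polynomial.monomial_zero_left, ← pow_add, show m + a + 1 = m + (a + 1) by omega]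
    · refine Finset.sum_congr rfl fun a ha => ?_
      rw [Finset.mem_range] at ha
      rw [if_pos (by omega), if_pos (by omega), Polynomial.C_mul_X_eq_monomial]
  rw [hsum, add_comm, add_pow, Polynomial.finsetSum_coeff]
  have hterm : ∀ i, ((Polynomial.C (small (m + 1)) * Polynomial.X) ^ i * Polynomial.C (X ^ m * small (m + 1)) ^ (n - i) * ((n.choose i : ℕ) : Polynomial (PowerSeries ℤ))).coeff D =
      if D = i then small (m + 1) ^ i * (X ^ ((n - i) * m) * small (m + 1) ^ (n - i)) * ((n.choose i : ℕ) : PowerSeries ℤ) else 0 := by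
    intro i
    have e : (Polynomial.C (small (m + 1)) * Polynomial.X) ^ i * Polynomial.C (X ^ m * small (m + 1)) ^ (n - i) * ((n.choose i : ℕ) : Polynomial (PowerSeries ℤ)) =
        Polynomial.C (small (m + 1) ^ i * (X ^ ((n - i) * m) * small (m + 1) ^ (n - i)) * ((n.choose i : ℕ) : PowerSeries ℤ)) * Polynomial.X ^ i := by
      simp only [mul_pow, map_mul, map_pow, map_natCast, mul_comm (n - i) m, pow_mul]
      ring
    rw [e, Polynomial.coeff_C_mul_X_pow]
  simp only [hterm, Finset.sum_ite_eq]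
  rcases Nat.lt_or_ge n D with h | h
  · simp [Nat.choose_eq_zero_of_lt h, Nat.not_lt.2 (Nat.succ_le_of_lt h)]
  rw [if_pos (Finset.mem_range.2 (Nat.lt_succ_of_le h)), mul_comm, ← map_natCast (C (R := ℤ)), coeff_C_mul, coeff_mul,
    Finset.Nat.sum_antidiagonal_eq_sum_range_succ_mk]
  congr 1
  refine Finset.sum_congr rfl fun j hj => ?_
  rw [Finset.mem_range] at hj
  congr 1
  rw [coeff_X_pow_mul']
  split_ifs with hle
  · rfl
  · rcases Nat.eq_zero_or_pos (n - D) with h0 | h0
    · rw [h0] at hle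
      omega
    · rw [Nat.sub_eq_zero_of_le (by omega), coeff_zero_eq_constantCoeff, map_pow]
      have hc : constantCoeff (small (m + 1)) = 0 := by
        rw [small, map_sum]
        refine Finset.sum_eq_zero fun a _ => ?_
        split_ifs with ha
        · rw [map_pow, constantCoeff_X, zero_pow (by omega)]
        · rw [map_zero]
      rw [hc, zero_pow (by omega)]

end Groth.Agent.BoundedCount
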